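import Groth.Agent.RelCurveDiv.Fibre
import Mathlib.RingTheory.Kaehler.Basic
import Mathlib.RingTheory.Smooth.StandardSmoothCotangent
import Mathlib.RingTheory.Etale.Field
import Mathlib.RingTheory.Etale.Kaehler

/-!
The differential of a uniformizer generates the differentials at a separable point of a smooth curve.
-/

noncomputable section

set_option autoImplicit false
set_option linter.style.haveILetI false
set_option backward.isDefEq.respectTransparency false
set_option backward.isDefEq.respectTransparency.types false

universe u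

open IsLocalRing TensorProduct KaehlerDifferential

namespace Groth.Agent.UnifOmega

variable (k : Type u) [Field k] (B : Type u) [CommRing B] [Algebra k B]
  [Algebra.IsStandardSmoothOfRelativeDimension 1 k B] (q : Ideal B) [q.IsPrime]
  (L : Type u) [CommRing L] [Algebra B L] [Algebra k L] [IsScalarTower k B L]
  [IsLocalization.AtPrime L q] [IsLocalRing L]

include k B q in
/-- An irreducible element generates the maximal ideal. -/
theorem span_eq_maximalIdeal (s : L) (hs : Irreducible s) : Ideal.span {s} = maximalIdeal L := by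
  obtain ⟨hdom, hpid⟩ := RelCurveDiv.isDomain_and_principal k q
  have hbot : (RelCurveDiv.under k q).map (algebraMap k (Localization.AtPrime q)) = ⊥ := by
    rw [show RelCurveDiv.under k q = ⊥ from (Ideal.eq_bot_or_top _).resolve_right
      (Ideal.comap_ne_top _ Ideal.IsPrime.ne_top'), Ideal.map_bot]
  let e₁ : EGA4.FibLocRing k B q ≃+* Localization.AtPrime q :=
    (Ideal.quotEquivOfEq hbot).trans (RingEquiv.quotientBot _)
  let e₂ : Localization.AtPrime q ≃+* L := (IsLocalization.algEquiv q.primeCompl _ L).toRingEquiv
  let e := e₁.trans e₂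
  haveI : IsDomain L := e.symm.injective.isDomain e.symm.toRingHom
  haveI : IsPrincipalIdealRing L := IsPrincipalIdealRing.of_surjective e.toRingHom e.surjective
  exact IsLocalRing.eq_maximalIdeal (PrincipalIdealRing.isMaximal_of_irreducible hs)

include k B q in
/-- The differential of an irreducible element is a basis. -/
theorem bijective_smul_D (κ : Type u) [Field κ] [Algebra L κ] [Algebra k κ] [IsScalarTower k L κ]
    (hκ : Function.Surjective (algebraMap L κ)) [Algebra.IsSeparable k κ] (s : L) (hs : Irreducible s) :
    Function.Bijective (fun a : L => a • D k L s) := by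
  haveI : Algebra.IsStandardSmooth k B :=
    Algebra.IsStandardSmoothOfRelativeDimension.isStandardSmooth (R := k) (S := B) 1
  haveI : Nontrivial B := nontrivial_of_ne (0 : B) 1 fun h =>
    Ideal.IsPrime.ne_top' (I := q) ((Ideal.eq_top_iff_one q).2 (h ▸ q.zero_mem))
  haveI : IsLocalizedModule q.primeCompl (KaehlerDifferential.map k k B L) := inferInstance
  let b₀ := Module.Free.chooseBasis B Ω[B⁄k]
  have hrk : Module.rank B Ω[B⁄k] = 1 := by
    rw [Algebra.IsStandardSmoothOfRelativeDimension.rank_kaehlerDifferential (n := 1)]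
    norm_num
  haveI : Unique (Module.Free.ChooseBasisIndex B Ω[B⁄k]) :=
    let h := Cardinal.eq_one_iff_unique.1 ((b₀.mk_eq_rank'').trans hrk)
    haveI := h.1
    uniqueOfSubsingleton h.2.some
  let b := (b₀.ofIsLocalizedModule L q.primeCompl (KaehlerDifferential.map k k B L))
  obtain ⟨u, hu⟩ : ∃ u : L, D k L s = u • b default :=
    ⟨b.repr (D k L s) default, (Fintype.sum_unique (fun i => b.repr (D k L s) i • b i)).symm.trans (b.sum_repr _) |>.symm⟩
  haveI : Algebra.FormallyEtale k κ := Algebra.FormallyEtale.of_isSeparable k κ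
  have hm : maximalIdeal L = RingHom.ker (algebraMap L κ) :=
    (IsLocalRing.eq_maximalIdeal (RingHom.ker_isMaximal_of_surjective _ hκ)).symm
  have hall : ∀ w : κ ⊗[L] Ω[L⁄k], ∃ c : κ, c • ((1 : κ) ⊗ₜ[L] D k L s) = w := by
    intro w
    have hw : w ∈ LinearMap.ker (KaehlerDifferential.mapBaseChange k L κ) := by
      rw [LinearMap.mem_ker]; exact Subsingleton.elim _ _
    obtain ⟨v, rfl⟩ := (KaehlerDifferential.exact_kerCotangentToTensor_mapBaseChange k L κ hκ w).1 hw
    obtain ⟨⟨a, ha⟩, rfl⟩ := Ideal.toCotangent_surjective _ v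
    rw [← hm, ← span_eq_maximalIdeal k B q L s hs] at ha
    obtain ⟨c, rfl⟩ := Ideal.mem_span_singleton'.1 ha
    refine ⟨algebraMap L κ c, ?_⟩
    show _ = (1 : κ) ⊗ₜ[L] D k L (c * s)
    have hs0 : algebraMap L κ s = 0 := by
      rw [← RingHom.mem_ker, ← hm, ← span_eq_maximalIdeal k B q L s hs]
      exact Ideal.mem_span_singleton_self s
    rw [Derivation.leibniz, TensorProduct.tmul_add, TensorProduct.tmul_smul, TensorProduct.tmul_smul,
      ← algebraMap_smul κ s, hs0, zero_smul, add_zero, algebraMap_smul]
  have hunit : IsUnit u := by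
    by_contra hnu
    have hu0 : algebraMap L κ u = 0 := by
      rw [← RingHom.mem_ker, ← hm]; exact (mem_maximalIdeal u).2 hnu
    have h0 : (1 : κ) ⊗ₜ[L] D k L s = 0 := by
      rw [hu, TensorProduct.tmul_smul, ← algebraMap_smul κ u, hu0, zero_smul]
    obtain ⟨c, hc⟩ := hall ((Algebra.TensorProduct.basis κ b) default)
    rw [h0, smul_zero] at hc
    exact (Algebra.TensorProduct.basis κ b).ne_zero default hc.symm
  obtain ⟨u', rfl⟩ := hunit
  refine ⟨fun a a' h => ?_, fun w => ⟨b.repr w default * ↑u'⁻¹, ?_⟩⟩
  · simp only [hu, smul_smul] at h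
    have h1 := congrArg (fun v => b.repr v default) h
    simp only [map_smul, Module.Basis.repr_self, Finsupp.smul_single, smul_eq_mul, mul_one,
      Finsupp.single_eq_same] at h1
    exact u'.isUnit.mul_left_injective h1
  · show (b.repr w default * ↑u'⁻¹) • D k L s = w
    rw [hu, smul_smul, Units.inv_mul_cancel_right]
    exact (Fintype.sum_unique (fun i => b.repr w i • b i)).symm.trans (b.sum_repr _)

end Groth.Agent.UnifOmega
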